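import Cfsg.Agent.H447.Rg.Chev

/-!
# S5714 [X7]: the data for the small order estimate, `²F₄(q)` (helper447)
-/

set_option autoImplicit false

namespace Cfsg.Agent.H447.Rg

open Polynomial Cfsg.Lie Cfsg.Agent.ChevalleyStructure.Elts

universe u

/-- all chains for `r` of length at most two -/
def chainTwo (D : ChevalleyDatum) (r : ℕ) : Bool :=
  (D.chain.getD r #[]).toList.all (fun e => decide (e.2.toList.length ≤ 2))

theorem chainCoeff_le_two {D : ChevalleyDatum} {r : ℕ} (h : chainTwo D r = true) (s u : ℕ) :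
    ∀ km ∈ D.chainCoeff r s u, km.1 ≤ 2 := by
  intro km hkm
  have h2 := List.all_eq_true.1 h
  rw [ChevalleyDatum.chainCoeff, List.mem_flatMap] at hkm
  obtain ⟨e, he, hkm⟩ := hkm
  have h3 := of_decide_eq_true (h2 e (List.mem_filter.1 he).1)
  rw [List.mem_map] at hkm
  obtain ⟨q, hq, rfl⟩ := hkm
  have h4 := (List.mem_filter.1 hq).1
  have h5 := List.snd_lt_of_mem_zipIdx h4
  show q.2 + 1 ≤ 2
  omega

theorem pMat_deg_two {D : ChevalleyDatum} (F : Type*) [Field F] (r : Fin D.nroots) (h : chainTwo D r.val = true)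
    (row col : D.Idx) : (pMat D F r row col).natDegree ≤ 2 := by
  have hone : ∀ (c : Prop) [Decidable c], (if c then (1 : F[X]) else 0).natDegree ≤ 2 := by
    intro c _
    split_ifs <;> simp
  have hX : ∀ a : F, (C a * X : F[X]).natDegree ≤ 2 := fun a =>
    ((Polynomial.natDegree_C_mul_le _ _).trans Polynomial.natDegree_X_le).trans (by norm_num)
  rcases col with i | s
  · rcases row with i' | u
    · exact hone (i' = i)
    · show (if u = r then - C (((D.cartanSR.getD i.val #[]).getD r.val 0 : ℤ) : F) * X else 0).natDegree ≤ 2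
      split_ifs
      · rw [neg_mul, Polynomial.natDegree_neg]
        exact hX _
      · simp
  · rcases row with i' | u
    · show (if s = r then 0 else if s.val = D.negIdx.getD r.val 0 then
        C (((D.coroot.getD r.val #[]).getD i'.val 0 : ℤ) : F) * X else 0).natDegree ≤ 2
      split_ifs
      · simp
      · exact hX _
      · simp
    · show (if s = r then (if u = r then 1 else 0) else if s.val = D.negIdx.getD r.val 0 then
          (if u = s then 1 else if u = r then -(X ^ 2) else 0)
        else (if u = s then 1 else 0) +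
             ((D.chainCoeff r.val s.val u.val).map fun km => C ((km.2 : ℤ) : F) * X ^ km.1).sum : F[X]).natDegree ≤ 2
      by_cases h1 : s = r
      · rw [if_pos h1]
        exact hone (u = r)
      rw [if_neg h1]
      by_cases h2 : s.val = D.negIdx.getD r.val 0
      · rw [if_pos h2]
        by_cases h3 : u = s
        · rw [if_pos h3]
          simp
        rw [if_neg h3]
        by_cases h4 : u = r
        · rw [if_pos h4, Polynomial.natDegree_neg, Polynomial.natDegree_X_pow]
        · rw [if_neg h4]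
          simp
      · rw [if_neg h2]
        refine (Polynomial.natDegree_add_le _ _).trans (max_le (hone _) ?_)
        refine natDegree_list_sum_le' _ _ fun p hp => ?_
        obtain ⟨km, hkm, rfl⟩ := List.mem_map.1 hp
        exact (Polynomial.natDegree_C_mul_X_pow_le _ _).trans (chainCoeff_le_two h s.val u.val km hkm)

theorem inList_F4 : InList chevF4 := by simp [InList]

theorem ok_aab : okD chevF4 f4aab f4maab = true := by decide +kernel
theorem two_ab : chainTwo chevF4 f4ab = true := by decide +kernel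
theorem col_chk : (List.range 48).all (fun u => (chevF4.chainCoeff f4ab f4aab u).isEmpty) = true := by decide +kernel
theorem entry_chk : (chevF4.chainCoeff f4mab f4aab f4maab).isEmpty = true := by decide +kernel
theorem neg_ab : chevF4.negIdx.getD f4ab 0 = f4mab := by decide +kernel
theorem neg_mab : chevF4.negIdx.getD f4mab 0 = f4ab := by decide +kernel
theorem neg_aab : chevF4.negIdx.getD f4aab 0 = f4maab := by decide +kernel
theorem neg_maab : chevF4.negIdx.getD f4maab 0 = f4aab := by decide +kernel

/-- the short root `a + b`, the long root `2 a + b` and their negatives -/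
def sI : Fin chevF4.nroots := ⟨f4ab, by decide⟩
def lI : Fin chevF4.nroots := ⟨f4aab, by decide⟩
def msI : Fin chevF4.nroots := ⟨f4mab, by decide⟩
def mlI : Fin chevF4.nroots := ⟨f4maab, by decide⟩

/-- the column of `l` -/
theorem pMat_col (F : Type*) [Field F] (i : chevF4.Idx) :
    pMat chevF4 F sI i (Sum.inr lI) = if i = Sum.inr lI then 1 else 0 := by
  have h1 : lI ≠ sI := by decide
  have h2 : ¬ lI.val = chevF4.negIdx.getD sI.val 0 := by
    show ¬ f4aab = chevF4.negIdx.getD f4ab 0
    rw [neg_ab]
    decide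
  rcases i with i | u
  · show (if lI = sI then (0 : F[X]) else if lI.val = chevF4.negIdx.getD sI.val 0 then
        C (((chevF4.coroot.getD sI.val #[]).getD i.val 0 : ℤ) : F) * X else 0) = _
    rw [if_neg h1, if_neg h2, if_neg (by simp)]
  · show (if lI = sI then (if u = sI then 1 else 0) else if lI.val = chevF4.negIdx.getD sI.val 0 then
          (if u = lI then 1 else if u = sI then -(X ^ 2) else 0)
        else (if u = lI then 1 else 0) +
             ((chevF4.chainCoeff sI.val lI.val u.val).map fun km => C ((km.2 : ℤ) : F) * X ^ km.1).sum : F[X]) = _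
    rw [if_neg h1, if_neg h2]
    have h3 : chevF4.chainCoeff sI.val lI.val u.val = [] := by
      have h4 := List.all_eq_true.1 col_chk u.val (List.mem_range.2 u.2)
      exact List.isEmpty_iff.1 h4
    rw [h3, List.map_nil, List.sum_nil, add_zero]
    by_cases h : u = lI
    · rw [if_pos h, if_pos (by rw [h])]
    · rw [if_neg h, if_neg (by simpa using h)]

/-- the polynomial matrix of `x_s(t) x_l(t ^ (2 e))` -/
noncomputable def pF (F : Type*) [Field F] (e : ℕ) : Matrix chevF4.Idx chevF4.Idx F[X] :=
  pMat chevF4 F sI * (pMat chevF4 F lI).map (Polynomial.expand F (2 * e))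

theorem pF_eval (F : Type*) [Field F] (e : ℕ) (t : F) :
    (pF F e).map (Polynomial.eval t) = chevF4.xMat F sI t * chevF4.xMat F lI (t ^ (2 * e)) := by
  have h5 := map_mul (Polynomial.evalRingHom t).mapMatrix (pMat chevF4 F sI)
    ((pMat chevF4 F lI).map (Polynomial.expand F (2 * e)))
  refine h5.trans ?_
  rw [← pMat_eval chevF4 F sI t, ← pMat_eval chevF4 F lI (t ^ (2 * e))]
  congr 1
  ext i j
  simp [Polynomial.expand_eval]

theorem pF_term (F : Type*) [Field F] {e : ℕ} (he : 2 ≤ e) (i j k : chevF4.Idx) :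
    (pMat chevF4 F sI i k * ((pMat chevF4 F lI).map (Polynomial.expand F (2 * e))) k j).natDegree ≤ 4 * e ∧
      (pMat chevF4 F sI i k * ((pMat chevF4 F lI).map (Polynomial.expand F (2 * e))) k j).coeff (4 * e) =
        if i = Sum.inr lI ∧ k = Sum.inr lI ∧ j = Sum.inr mlI then -1 else 0 := by
  have hs := pMat_deg_two F sI two_ab i k
  have hl := pMat_deg F lI ok_aab k j
  rw [Matrix.map_apply]
  by_cases hkj : k = Sum.inr lI ∧ j = Sum.inr mlI
  · obtain ⟨rfl, rfl⟩ := hkj
    have h1 : pMat chevF4 F lI (Sum.inr lI) (Sum.inr mlI) = -(X ^ 2) := by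
      show (if mlI = lI then (if lI = lI then (1 : F[X]) else 0) else if mlI.val = chevF4.negIdx.getD lI.val 0 then
          (if lI = mlI then 1 else if lI = lI then -((X : F[X]) ^ 2) else 0) else
            (if lI = mlI then 1 else 0) + ((chevF4.chainCoeff lI.val mlI.val lI.val).map fun km => C ((km.2 : ℤ) : F) * X ^ km.1).sum) = _
      rw [if_neg (by decide), if_pos (by exact neg_aab.symm), if_neg (by decide), if_pos rfl]
    have h2 : (Polynomial.expand F (2 * e)) (-(X ^ 2) : F[X]) = -(X ^ (4 * e)) := by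
      rw [map_neg, map_pow, Polynomial.expand_X, ← pow_mul]
      congr 2
      ring
    rw [h1, h2, pMat_col]
    by_cases hi : i = Sum.inr lI
    · rw [if_pos hi, one_mul, if_pos ⟨hi, rfl, rfl⟩]
      refine ⟨?_, ?_⟩
      · rw [Polynomial.natDegree_neg, Polynomial.natDegree_X_pow]
      · rw [Polynomial.coeff_neg, Polynomial.coeff_X_pow, if_pos rfl]
    · rw [if_neg hi, zero_mul, if_neg (fun h => hi h.1)]
      simp
  · have h1 : (pMat chevF4 F lI k j).natDegree ≤ 1 := by
      refine hl.2 fun s hs' hh => hkj ⟨hh.1, ?_⟩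
      rw [hh.2]
      have : s = mlI := Fin.ext (by rw [hs']; exact neg_aab)
      rw [this]
    have h2 : ((Polynomial.expand F (2 * e)) (pMat chevF4 F lI k j)).natDegree ≤ 2 * e := by
      rw [Polynomial.natDegree_expand]
      calc _ ≤ 1 * (2 * e) := Nat.mul_le_mul_right _ h1
        _ = 2 * e := one_mul _
    have h3 : (pMat chevF4 F sI i k * (Polynomial.expand F (2 * e)) (pMat chevF4 F lI k j)).natDegree < 4 * e := by
      refine lt_of_le_of_lt (Polynomial.natDegree_mul_le.trans (Nat.add_le_add hs h2)) ?_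
      omega
    refine ⟨h3.le, ?_⟩
    rw [if_neg (fun h => hkj ⟨h.2.1, h.2.2⟩)]
    exact Polynomial.coeff_eq_zero_of_natDegree_lt h3

theorem pF_deg (F : Type*) [Field F] {e : ℕ} (he : 2 ≤ e) (i j : chevF4.Idx) : (pF F e i j).natDegree ≤ 4 * e := by
  rw [pF, Matrix.mul_apply]
  exact Polynomial.natDegree_sum_le_of_forall_le _ _ fun k _ => (pF_term F he i j k).1

theorem pF_coeff (F : Type*) [Field F] {e : ℕ} (he : 2 ≤ e) (i j : chevF4.Idx) :
    (pF F e i j).coeff (4 * e) = if i = Sum.inr lI ∧ j = Sum.inr mlI then -1 else 0 := by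
  rw [pF, Matrix.mul_apply, Polynomial.finsetSum_coeff, Finset.sum_congr rfl fun k _ => (pF_term F he i j k).2,
    Finset.sum_eq_single (Sum.inr lI)]
  · simp
  · intro k _ hk
    rw [if_neg (fun h => hk h.2.1)]
  · intro h
    exact absurd (Finset.mem_univ _) h

/-- the entry of `x_{-s}(1) x_{-l}(1)` -/
theorem entry_ne (F : Type*) [Field F] :
    (chevF4.xMat F msI 1 * chevF4.xMat F mlI 1) (Sum.inr mlI) (Sum.inr lI) = -1 := by
  rw [Matrix.mul_apply, Finset.sum_eq_single (Sum.inr mlI)]
  · have h1 : chevF4.xMat F msI 1 (Sum.inr mlI) (Sum.inr mlI) = 1 := by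
      show (if mlI = msI then (if mlI = msI then (1 : F) else 0) else if mlI.val = chevF4.negIdx.getD msI.val 0 then
          (if mlI = mlI then 1 else if mlI = msI then -((1 : F) ^ 2) else 0) else
            (if mlI = mlI then 1 else 0) + ((chevF4.chainCoeff msI.val mlI.val mlI.val).map fun km => ((km.2 : ℤ) : F) * 1 ^ km.1).sum) = _
      rw [if_neg (by decide), if_neg (by
        show ¬ f4maab = chevF4.negIdx.getD f4mab 0
        rw [neg_mab]
        decide), if_pos rfl]
      have h4 : chevF4.chainCoeff msI.val mlI.val mlI.val = [] := by decide +kernel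
      rw [h4, List.map_nil, List.sum_nil, add_zero]
    have h2 : chevF4.xMat F mlI 1 (Sum.inr mlI) (Sum.inr lI) = -1 := by
      show (if lI = mlI then (if mlI = mlI then (1 : F) else 0) else if lI.val = chevF4.negIdx.getD mlI.val 0 then
          (if mlI = lI then 1 else if mlI = mlI then -((1 : F) ^ 2) else 0) else
            (if mlI = lI then 1 else 0) + ((chevF4.chainCoeff mlI.val lI.val mlI.val).map fun km => ((km.2 : ℤ) : F) * 1 ^ km.1).sum) = _
      rw [if_neg (by decide), if_pos (by exact neg_maab.symm), if_neg (by decide), if_pos rfl]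
      simp
    rw [h1, h2, one_mul]
  · intro k _ hk
    rcases k with i | u
    · have h1 : chevF4.xMat F msI 1 (Sum.inr mlI) (Sum.inl i) = 0 := by
        show (if mlI = msI then - (((chevF4.cartanSR.getD i.val #[]).getD msI.val 0 : ℤ) : F) * 1 else (0 : F)) = 0
        rw [if_neg (by decide)]
      rw [h1, zero_mul]
    · by_cases hu : u = lI
      · subst hu
        have h1 : chevF4.xMat F msI 1 (Sum.inr mlI) (Sum.inr lI) = 0 := by
          show (if lI = msI then (if mlI = msI then (1 : F) else 0) else if lI.val = chevF4.negIdx.getD msI.val 0 then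
              (if mlI = lI then 1 else if mlI = msI then -((1 : F) ^ 2) else 0) else
                (if mlI = lI then 1 else 0) + ((chevF4.chainCoeff msI.val lI.val mlI.val).map fun km => ((km.2 : ℤ) : F) * 1 ^ km.1).sum) = _
          rw [if_neg (by decide), if_neg (by
            show ¬ f4aab = chevF4.negIdx.getD f4mab 0
            rw [neg_mab]
            decide), if_neg (by decide)]
          have h4 : chevF4.chainCoeff msI.val lI.val mlI.val = [] := List.isEmpty_iff.1 entry_chk
          rw [h4, List.map_nil, List.sum_nil, add_zero]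
        rw [h1, zero_mul]
      · have h1 : chevF4.xMat F mlI 1 (Sum.inr u) (Sum.inr lI) = 0 := by
          show (if lI = mlI then (if u = mlI then (1 : F) else 0) else if lI.val = chevF4.negIdx.getD mlI.val 0 then
              (if u = lI then 1 else if u = mlI then -((1 : F) ^ 2) else 0) else
              (if u = lI then 1 else 0) + ((chevF4.chainCoeff mlI.val lI.val u.val).map fun km => ((km.2 : ℤ) : F) * 1 ^ km.1).sum) = _
          rw [if_neg (by decide), if_pos (by exact neg_maab.symm), if_neg hu, if_neg (fun h => hk (by rw [h]))]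
        rw [h1, mul_zero]
  · intro h
    exact absurd (Finset.mem_univ _) h

def i8 : Fin chevF4.nroots := ⟨8, by decide⟩
def i11 : Fin chevF4.nroots := ⟨11, by decide⟩

theorem col8_chk : (List.range 48).all (fun u => (chevF4.chainCoeff f4aab 8 u).isEmpty) = true := by decide +kernel
theorem ent_chk : chevF4.chainCoeff f4ab 8 11 = [(1, -1)] := by decide +kernel

theorem col8 (F : Type*) [Field F] (w : F) (k : chevF4.Idx) :
    chevF4.xMat F lI w k (Sum.inr i8) = if k = Sum.inr i8 then 1 else 0 := by
  have h1 : i8 ≠ lI := by decide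
  have h2 : ¬ i8.val = chevF4.negIdx.getD lI.val 0 := by
    show ¬ 8 = chevF4.negIdx.getD f4aab 0
    rw [neg_aab]
    decide
  rcases k with i | u
  · show (if i8 = lI then (0 : F) else if i8.val = chevF4.negIdx.getD lI.val 0 then
        (((chevF4.coroot.getD lI.val #[]).getD i.val 0 : ℤ) : F) * w else 0) = _
    rw [if_neg h1, if_neg h2, if_neg (by simp)]
  · show (if i8 = lI then (if u = lI then (1 : F) else 0) else if i8.val = chevF4.negIdx.getD lI.val 0 then
          (if u = i8 then 1 else if u = lI then -(w ^ 2) else 0)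
        else (if u = i8 then 1 else 0) +
             ((chevF4.chainCoeff lI.val i8.val u.val).map fun km => ((km.2 : ℤ) : F) * w ^ km.1).sum) = _
    rw [if_neg h1, if_neg h2]
    have h3 : chevF4.chainCoeff lI.val i8.val u.val = [] := by
      have h4 := List.all_eq_true.1 col8_chk u.val (List.mem_range.2 u.2)
      exact List.isEmpty_iff.1 h4
    rw [h3, List.map_nil, List.sum_nil, add_zero]
    by_cases h : u = i8
    · rw [if_pos h, if_pos (by rw [h])]
    · rw [if_neg h, if_neg (by simpa using h)]

theorem ent11 (F : Type*) [Field F] (t : F) : chevF4.xMat F sI t (Sum.inr i11) (Sum.inr i8) = -t := by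
  have h1 : i8 ≠ sI := by decide
  have h2 : ¬ i8.val = chevF4.negIdx.getD sI.val 0 := by
    show ¬ 8 = chevF4.negIdx.getD f4ab 0
    rw [neg_ab]
    decide
  show (if i8 = sI then (if i11 = sI then (1 : F) else 0) else if i8.val = chevF4.negIdx.getD sI.val 0 then
          (if i11 = i8 then 1 else if i11 = sI then -(t ^ 2) else 0)
        else (if i11 = i8 then 1 else 0) +
             ((chevF4.chainCoeff sI.val i8.val i11.val).map fun km => ((km.2 : ℤ) : F) * t ^ km.1).sum) = _
  rw [if_neg h1, if_neg h2, if_neg (by decide)]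
  have h3 : chevF4.chainCoeff sI.val i8.val i11.val = [(1, -1)] := ent_chk
  rw [h3]
  simp

theorem prod11 (F : Type*) [Field F] (t w : F) :
    (chevF4.xMat F sI t * chevF4.xMat F lI w) (Sum.inr i11) (Sum.inr i8) = -t := by
  rw [Matrix.mul_apply, Finset.sum_eq_single (Sum.inr i8)]
  · rw [col8, if_pos rfl, ent11, mul_one]
  · intro k _ hk
    rw [col8, if_neg hk, mul_zero]
  · intro h
    exact absurd (Finset.mem_univ _) h

theorem ordData_congr {T T' : Type} [Group T] [Group T'] (e : T ≃* T') {q : ℕ} {c D : ℝ}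
    (h : H141.Rg.OrdData T q c D) : H141.Rg.OrdData T' q c D := by
  obtain ⟨F, hF, x, S, d, h1, h2, h3, h4, h5⟩ := h
  refine ⟨F, hF, fun t => e (x t), e '' S, d, e.injective.comp h1, h2, ?_, h4, ?_⟩
  · have h6 : Nat.card (e '' S) = Nat.card S := Nat.card_image_of_injective e.injective S
    rw [h6, ← Nat.card_congr e.toEquiv]
    exact h3
  · rintro _ ⟨g, hg, rfl⟩ m hm
    refine le_of_eq_of_le (Nat.card_congr (Equiv.subtypeEquivRight fun t => ?_)) (h5 g hg m hm)
    rw [← map_mul, ← map_pow, map_eq_one_iff e e.injective]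

theorem word_mem {F : Type} [Field F] {e : ℕ} (he : 1 ≤ e) (u : F) :
    xG inList_F4 f4ab u * xG inList_F4 f4aab (u ^ (2 * e)) ∈ Lie.twistedF4 F e := by
  refine Subgroup.subset_closure ⟨b2ClassWord e f4a f4b f4ab f4aab 0 u, Or.inr ⟨0, u, Or.inl rfl⟩, ?_⟩
  show _ = chevF4.wordMat F [(f4a, 0 ^ e), (f4b, 0), (f4ab, 0 ^ (e + 1) + u), (f4aab, u ^ (2 * e))]
  rw [wordMat_cons, wordMat_cons, wordMat_cons, wordMat_cons, wordMat_nil, mul_one, zero_pow (by omega),
    zero_pow (by omega), zero_add]
  simp only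
  rw [x_zero inList_F4, x_zero inList_F4, one_mul, one_mul]
  rfl

theorem word_mem' {F : Type} [Field F] {e : ℕ} (he : 1 ≤ e) :
    xG inList_F4 f4mab (1 : F) * xG inList_F4 f4maab 1 ∈ Lie.twistedF4 F e := by
  refine Subgroup.subset_closure ⟨b2ClassWord e f4ma f4mb f4mab f4maab 0 1, Or.inr ⟨0, 1, Or.inr rfl⟩, ?_⟩
  show _ = chevF4.wordMat F [(f4ma, 0 ^ e), (f4mb, 0), (f4mab, 0 ^ (e + 1) + 1), (f4maab, 1 ^ (2 * e))]
  rw [wordMat_cons, wordMat_cons, wordMat_cons, wordMat_cons, wordMat_nil, mul_one, zero_pow (by omega),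
    zero_pow (by omega), zero_add, one_pow]
  simp only
  rw [x_zero inList_F4, x_zero inList_F4, one_mul, one_mul]
  rfl

theorem ord_tw (F : Type) [Field F] [Finite F] {m : ℕ} (hm : 1 ≤ m) (hF : Nat.card F = 2 ^ (2 * m + 1)) :
    H141.Rg.OrdData ↥(Lie.twistedF4 F (2 ^ m)) (2 ^ (2 * m + 1)) (1 / 248) 4 := by
  classical
  set e := 2 ^ m with he
  have he2 : 2 ≤ e := by
    calc 2 = 2 ^ 1 := rfl
      _ ≤ 2 ^ m := Nat.pow_le_pow_right (by norm_num) hm
  have hfin : Finite ↥(Lie.twistedF4 F e) := inferInstance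
  set T := Lie.twistedF4 F e with hT
  have hex : ∃ g, rep T g (Sum.inr mlI) (Sum.inr lI) ≠ 0 := by
    refine ⟨⟨_, word_mem' (F := F) (e := e) (by omega)⟩, ?_⟩
    have h1 : rep T ⟨_, word_mem' (F := F) (e := e) (by omega)⟩ = chevF4.xMat F msI 1 * chevF4.xMat F mlI 1 := rfl
    rw [h1, entry_ne]
    simp
  refine ⟨F, inferInstance, fun t => ⟨_, word_mem (F := F) (e := e) (by omega) t⟩,
    {g | rep T g (Sum.inr mlI) (Sum.inr lI) ≠ 0}, 4 * e, ?_, hF, ?_, ?_, ?_⟩
  · intro t u htu
    have h1 : chevF4.xMat F sI t * chevF4.xMat F lI (t ^ (2 * e)) =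
        chevF4.xMat F sI u * chevF4.xMat F lI (u ^ (2 * e)) := congrArg (rep T) htu
    have h2 := congrFun (congrFun h1 (Sum.inr i11)) (Sum.inr i8)
    rw [prod11, prod11] at h2
    exact neg_injective h2
  · have h1 := card_entry (rep T) hex
    have h2 : Fintype.card chevF4.Idx ≤ 248 := by
      rw [Fintype.card_sum, Fintype.card_fin, Fintype.card_fin]
      decide
    have h3 := h1.trans (Nat.mul_le_mul_right _ h2)
    have h4 : (Nat.card ↥T : ℝ) ≤
        248 * (Nat.card {g : ↥T // rep T g (Sum.inr mlI) (Sum.inr lI) ≠ 0} : ℕ) := by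
      exact_mod_cast h3
    have h5 : (Nat.card ({g | rep T g (Sum.inr mlI) (Sum.inr lI) ≠ 0} : Set ↥T) : ℝ) =
      (Nat.card {g : ↥T // rep T g (Sum.inr mlI) (Sum.inr lI) ≠ 0} : ℕ) := rfl
    rw [h5]
    linarith
  · have h1 : ((2 : ℝ) ^ m) ≤ Real.sqrt ((2 ^ (2 * m + 1) : ℕ) : ℝ) := by
      apply Real.le_sqrt_of_sq_le
      push_cast
      rw [← pow_mul]
      exact pow_le_pow_right₀ (by norm_num) (by omega)
    rw [he]
    push_cast at h1 ⊢
    linarith
  · intro g hg n hn
    refine card_pow_eq_one_le (rep T) (fun t : F => (⟨_, word_mem (F := F) (e := e) (by omega) t⟩ : ↥T)) (fun t => t)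
      Function.injective_id (pF F e) (D := 4 * e) (by omega) (pF_deg F he2) ?_
      (i0 := Sum.inr lI) (j0 := Sum.inr mlI) ?_ ?_ g hg n hn
    · intro t
      rw [pF_eval]
      rfl
    · intro i j hij
      rw [pF_coeff F he2, if_neg (fun h => hij (by rw [h.1, h.2]))]
    · rw [pF_coeff F he2, if_pos ⟨rfl, rfl⟩]
      simp

theorem ord_tf4 : ∃ c0 D0 : ℝ, 0 < c0 ∧ ∀ (q : ℕ) (T : Type) [Group T] [Finite T],
    H436.IsNamed (.tf4 q) T → H141.Rg.OrdData T q c0 D0 := by
  refine ⟨1 / 248, 4, by norm_num, fun q T _ _ hT => ?_⟩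
  obtain ⟨F, _, _, m, hm, hF, hq, ⟨e⟩⟩ := hT.real
  subst hq
  exact ordData_congr e.symm (ord_tw F hm (by rw [Nat.card_eq_fintype_card, hF]))

end Cfsg.Agent.H447.Rg
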